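import Mathlib

/-!
# Groups with a normal subgroup isomorphic to `S₄` (helper832)

`inner` : the automorphisms of the symmetric group of degree 4 are inner.
`exists_prod` : a group with a normal subgroup `T` isomorphic to `S₄` is the direct product of `T` and its centralizer.
-/

set_option autoImplicit false

namespace Cfsg.Agent.H832.WTwo.AutS4

open Equiv

def s1 : Perm (Fin 4) := swap 0 1

def s2 : Perm (Fin 4) := finRotate 4

theorem key : ∀ x y : Perm (Fin 4), (x * x = 1 ∧ x ≠ 1 ∧ y * y ≠ 1 ∧ y * y * (y * y) = 1 ∧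
    x * y * (x * y) * (x * y) = 1) → ∃ t : Perm (Fin 4), t * s1 = x * t ∧ t * s2 = y * t := by
  unfold s1 s2
  decide +kernel

theorem closure_eq : Subgroup.closure {s1, s2} = ⊤ := by
  have h1 := Equiv.Perm.closure_cycle_adjacent_swap (σ := s2) (isCycle_finRotate) (by unfold s2; exact support_finRotate) 0
  have h2 : swap 0 (s2 0) = s1 := by unfold s1 s2; decide
  rw [h2, Set.pair_comm] at h1
  exact h1

theorem rel : s1 * s1 = 1 ∧ s1 ≠ 1 ∧ s2 * s2 ≠ 1 ∧ s2 * s2 * (s2 * s2) = 1 ∧ s1 * s2 * (s1 * s2) * (s1 * s2) = 1 := by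
  unfold s1 s2
  decide +kernel

theorem inner (φ : Perm (Fin 4) ≃* Perm (Fin 4)) : ∃ t : Perm (Fin 4), ∀ x, φ x = t * x * t⁻¹ := by
  obtain ⟨r1, r2, r3, r4, r5⟩ := rel
  obtain ⟨t, h1, h2⟩ := key (φ s1) (φ s2) ⟨by rw [← map_mul, r1, map_one],
    (fun h => r2 (φ.injective (h.trans (map_one φ).symm))),
    (fun h => r3 (φ.injective (by rw [map_mul, h, map_one]))),
    (by rw [← map_mul, ← map_mul, r4, map_one]),
    (by rw [← map_mul, ← map_mul, ← map_mul, r5, map_one])⟩
  refine ⟨t, ?_⟩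
  have h3 : (φ : Perm (Fin 4) →* Perm (Fin 4)) = (MulAut.conj t : Perm (Fin 4) →* Perm (Fin 4)) := by
    apply MonoidHom.eq_of_eqOn_dense closure_eq
    rintro x (rfl | rfl)
    · show φ s1 = t * s1 * t⁻¹
      rw [h1, mul_inv_cancel_right]
    · show φ s2 = t * s2 * t⁻¹
      rw [h2, mul_inv_cancel_right]
  intro x
  exact DFunLike.congr_fun h3 x

theorem center_triv : ∀ z : Perm (Fin 4), z * s1 = s1 * z → z * s2 = s2 * z → z = 1 := by
  unfold s1 s2
  decide +kernel

variable {Q : Type*} [Group Q]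

/-- elements act on `T` as elements of `T` -/
theorem exists_mul {T : Subgroup Q} (hT : T.Normal) (e : T ≃* Perm (Fin 4)) (g : Q) :
    ∃ t ∈ T, t⁻¹ * g ∈ Subgroup.centralizer (T : Set Q) := by
  obtain ⟨t, ht⟩ := inner ((e.symm.trans (MulAut.conjNormal g : T ≃* T)).trans e)
  refine ⟨e.symm t, (e.symm t).2, ?_⟩
  rw [Subgroup.mem_centralizer_iff]
  intro x hx
  have h1 := ht (e ⟨x, hx⟩)
  have h2 : (MulAut.conjNormal g : T ≃* T) ⟨x, hx⟩ = e.symm t * ⟨x, hx⟩ * (e.symm t)⁻¹ := by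
    apply e.injective
    rw [map_mul, map_mul, map_inv, e.apply_symm_apply, ← h1]
    show _ = e ((MulAut.conjNormal g : T ≃* T) (e.symm (e ⟨x, hx⟩)))
    rw [e.symm_apply_apply]
  have h3 : g * x * g⁻¹ = (e.symm t : Q) * x * (e.symm t : Q)⁻¹ := congrArg Subtype.val h2
  have h4 : g * x = (e.symm t : Q) * x * (e.symm t : Q)⁻¹ * g := by rw [← h3]; group
  rw [mul_assoc, h4]
  group

theorem inf_eq {T : Subgroup Q} (e : T ≃* Perm (Fin 4)) {z : Q} (hz : z ∈ T)
    (hz' : z ∈ Subgroup.centralizer (T : Set Q)) : z = 1 := by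
  have key : ∀ x, e ⟨z, hz⟩ * x = x * e ⟨z, hz⟩ := by
    intro x
    obtain ⟨y, rfl⟩ := e.surjective x
    rw [← map_mul, ← map_mul]
    congr 1
    exact Subtype.ext (Subgroup.mem_centralizer_iff.1 hz' y y.2).symm
  have h1 := center_triv _ (key _) (key _)
  exact congrArg Subtype.val (e.injective (h1.trans (map_one e).symm))

/-- **The product.** -/
theorem exists_prod {T : Subgroup Q} (hT : T.Normal) (e : T ≃* Perm (Fin 4)) :
    Nonempty (Q ≃* Perm (Fin 4) × Subgroup.centralizer (T : Set Q)) := by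
  let f : T × Subgroup.centralizer (T : Set Q) →* Q :=
    MonoidHom.noncommCoprod T.subtype (Subgroup.centralizer (T : Set Q)).subtype
      (fun x y => (Subgroup.mem_centralizer_iff.1 y.2 x x.2))
  have hf : Function.Bijective f := by
    constructor
    · rw [injective_iff_map_eq_one]
      rintro ⟨x, y⟩ h
      have h1 : (x : Q) * y = 1 := h
      have h2 : (y : Q) ∈ T := by
        rw [eq_inv_of_mul_eq_one_right h1]
        exact T.inv_mem x.2
      have h3 := inf_eq e h2 y.2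
      rw [h3, mul_one] at h1
      exact Prod.ext (Subtype.ext h1) (Subtype.ext h3)
    · intro g
      obtain ⟨t, ht, h⟩ := exists_mul hT e g
      exact ⟨(⟨t, ht⟩, ⟨_, h⟩), by show t * (t⁻¹ * g) = g; group⟩
  exact ⟨(MulEquiv.ofBijective f hf).symm.trans (MulEquiv.prodCongr e (MulEquiv.refl _))⟩

end Cfsg.Agent.H832.WTwo.AutS4
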